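import Cfsg.Agent.SEModuleBound.Ambient
import Cfsg.Agent.PushingUp.ModuleBoundPSL
import Cfsg.Agent.PushingUp.ModuleBoundSz
import Cfsg.Agent.PushingUp.ModuleBoundPSU
import Cfsg.Agent.Suzuki.SylowTwo
import Cfsg.Agent.S1141
import Cfsg.Agent.S1137

/-!
The bounds for a normal subgroup whose quotient by its core is `PSL₂(2^a)`, `Sz` or `PSU₃`.
-/

set_option autoImplicit false
set_option linter.style.haveILetI false

namespace CfsgLib.SEModuleBound

open Cfsg Module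

universe u v

variable {G : Type u} [Group G] [Finite G] {V : Type v} [AddCommGroup V] [Module (ZMod 2) V]
  [FiniteDimensional (ZMod 2) V]

/-- What is to be proved for a Sylow 2-subgroup `S`. -/
def Bounds (ρ : G →* Module.End (ZMod 2) V) (S : Subgroup G) : Prop :=
  (∀ k : ℕ, Nat.card S = 2 ^ k → 2 * k ≤ finrank (ZMod 2) V) ∧
    ∀ n : ℕ, (∀ z ∈ S ⊓ Subgroup.centralizer (S : Set G), z ^ 2 = 1) →
      Nat.card ↥(S ⊓ Subgroup.centralizer (S : Set G)) = 2 ^ n →
        ∀ s ∈ S, s ≠ 1 → n ≤ finrank (ZMod 2) (LinearMap.range (ρ s - 1))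

omit [Finite G] [FiniteDimensional (ZMod 2) V] in
theorem range_pow_le (ρ : G →* Module.End (ZMod 2) V) (s : G) (j : ℕ) :
    LinearMap.range (ρ (s ^ j) - 1) ≤ LinearMap.range (ρ s - 1) := by
  rw [map_pow, ← mul_geom_sum]
  exact LinearMap.range_comp_le_range _ _

theorem card_center_eq {T : Type*} [Group T] (S : Subgroup T) :
    Nat.card ↥(S ⊓ Subgroup.centralizer (S : Set T)) = Nat.card (Subgroup.center S) := by
  refine Nat.card_congr ⟨fun x => ⟨⟨x.1, x.2.1⟩, Subgroup.mem_center_iff.2 fun y =>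
    Subtype.ext (Subgroup.mem_centralizer_iff.1 x.2.2 y y.2)⟩,
    fun x => ⟨x.1.1, x.1.2, Subgroup.mem_centralizer_iff.2 fun y hy =>
      congrArg Subtype.val (Subgroup.mem_center_iff.1 x.2 ⟨y, hy⟩)⟩, fun _ => rfl, fun _ => rfl⟩

theorem inj_of_twoGroup {K : Subgroup G} {X : Type*} [Group X] (e : K ⧸ pPrimeCore 2 K ≃* X)
    {x : K} {j : ℕ} (hx : x ^ 2 ^ j = 1) (h : e (QuotientGroup.mk x) = 1) : x = 1 := by
  haveI : Fact (Nat.Prime 2) := ⟨Nat.prime_two⟩
  rw [map_eq_one_iff _ e.injective, QuotientGroup.eq_one_iff] at h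
  rw [← orderOf_eq_one_iff]
  exact Nat.eq_one_of_dvd_coprimes (CfsgLib.Constrained.pPrimeCore_coprime.pow_right j)
    (Subgroup.orderOf_dvd_natCard _ h) (orderOf_dvd_of_pow_eq_one hx)

/-- The Sylow 2-subgroup of `G` inside `K` against one of the quotient. -/
theorem exists_sylow_equiv (S : Sylow 2 G) {K : Subgroup G} (hSK : (S : Subgroup G) ≤ K) {X : Type*}
    [Group X] (e : K ⧸ pPrimeCore 2 K ≃* X) :
    ∃ P : Sylow 2 X, Nonempty ((S : Subgroup G) ≃* (P : Subgroup X)) := by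
  haveI : Fact (Nat.Prime 2) := ⟨Nat.prime_two⟩
  set π := e.toMonoidHom.comp (QuotientGroup.mk' (pPrimeCore 2 K)) with hπdef
  have hπ : Function.Surjective π := e.surjective.comp (QuotientGroup.mk'_surjective _)
  set S' : Sylow 2 K := S.subtype hSK with hS'
  refine ⟨S'.mapSurjective hπ, ⟨?_⟩⟩
  refine (Subgroup.subgroupOfEquivOfLe hSK).symm.trans (MulEquiv.ofBijective
    (π.subgroupMap ((S : Subgroup G).subgroupOf K)) ⟨fun a b h => ?_, MonoidHom.subgroupMap_surjective _ _⟩)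
  have h' : π (a : K) = π (b : K) := congrArg Subtype.val h
  have h1 : π ((a : K)⁻¹ * b) = 1 := by rw [map_mul, map_inv, h', inv_mul_cancel]
  obtain ⟨j, hj⟩ := S'.isPGroup' (a⁻¹ * b)
  exact Subtype.ext (inv_mul_eq_one.1 (inj_of_twoGroup e (congrArg Subtype.val hj) h1))

omit [Finite G] in
/-- An involution among the powers. -/
theorem exists_pow_involution (S : Sylow 2 G) {s : G} (hs : s ∈ (S : Subgroup G)) (hs1 : s ≠ 1) :
    ∃ j : ℕ, s ^ j ≠ 1 ∧ s ^ j * s ^ j = 1 := by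
  obtain ⟨i, hi⟩ := S.isPGroup' ⟨s, hs⟩
  have hi' : s ^ 2 ^ i = 1 := congrArg Subtype.val hi
  obtain ⟨l, -, hl⟩ := (Nat.dvd_prime_pow Nat.prime_two).1 (orderOf_dvd_of_pow_eq_one hi')
  have hl1 : l ≠ 0 := fun h => hs1 (orderOf_eq_one_iff.1 (by rw [hl, h, pow_zero]))
  refine ⟨2 ^ (l - 1), fun h => ?_, ?_⟩
  · exact absurd (Nat.le_of_dvd (pow_pos two_pos _) (hl ▸ orderOf_dvd_of_pow_eq_one h))
      (not_le.2 (Nat.pow_lt_pow_right (by norm_num) (by omega)))
  · rw [← pow_add, ← two_mul, ← pow_succ', show l - 1 + 1 = l by omega, ← hl, pow_orderOf_eq_one]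

/-- The data needed by the quoted bounds. -/
theorem transport (S : Sylow 2 G) {K : Subgroup G} (hSK : (S : Subgroup G) ≤ K) {W : Type*} [Group W]
    {H' : Subgroup W} [Fact (Nat.Prime 2)] (f : K ≃* H')
    (hcen : ∀ s : (S : Subgroup G), s * s = 1 → s ∈ Subgroup.center (S : Subgroup G)) {u : G}
    (hu : u ∈ (S : Subgroup G)) (hu1 : u ≠ 1) (hu2 : u * u = 1) :
    let T := ((((S.subtype hSK).mapSurjective (f := f.toMonoidHom) f.surjective : Sylow 2 H') :
      Subgroup H').map H'.subtype)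
    let w := ((f ⟨u, hSK hu⟩ : H') : W)
    w ∈ T ∧ w ∈ Subgroup.centralizer (T : Set W) ∧ w ≠ 1 ∧ w * w = 1 := by
  intro T w
  refine ⟨⟨f ⟨u, hSK hu⟩, ⟨⟨u, hSK hu⟩, hu, rfl⟩, rfl⟩, Subgroup.mem_centralizer_iff.2 ?_, ?_, ?_⟩
  · rintro _ ⟨_, ⟨x, hx, rfl⟩, rfl⟩
    have h := Subgroup.mem_center_iff.1 (hcen ⟨u, hu⟩ (Subtype.ext hu2)) ⟨x.1, hx⟩
    have h' : (x : G) * u = u * x := congrArg Subtype.val h
    show ((f x : H') : W) * w = w * ((f x : H') : W)
    rw [← Subgroup.coe_mul, ← Subgroup.coe_mul, ← map_mul, ← map_mul,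
      show x * ⟨u, hSK hu⟩ = ⟨u, hSK hu⟩ * x from Subtype.ext h']
  · intro h
    exact hu1 (congrArg Subtype.val ((map_eq_one_iff f f.injective).1 (Subtype.ext h)))
  · show ((f ⟨u, hSK hu⟩ * f ⟨u, hSK hu⟩ : H') : W) = 1
    rw [← map_mul, show (⟨u, hSK hu⟩ : K) * ⟨u, hSK hu⟩ = 1 from Subtype.ext hu2, map_one]
    rfl

theorem bounds_psl (ρ : G →* Module.End (ZMod 2) V) (hρ : Function.Injective ρ) (S : Sylow 2 G)
    {K : Subgroup G} (hSK : (S : Subgroup G) ≤ K) {F : Type*} [Field F] [Fintype F] {a : ℕ} (ha : 2 ≤ a)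
    (hF : Fintype.card F = 2 ^ a)
    (e : K ⧸ pPrimeCore 2 K ≃* Matrix.ProjectiveSpecialLinearGroup (Fin 2) F) :
    Bounds ρ (S : Subgroup G) := by
  haveI : Fact (Nat.Prime 2) := ⟨Nat.prime_two⟩
  obtain ⟨W, _, _, V', H', f, hN, hV, hf, hcard, hidx⟩ := exists_ambient ρ hρ K
  obtain ⟨e'⟩ := exists_quotient_equiv f e
  haveI := hN
  have key : ∀ s ∈ (S : Subgroup G), s ≠ 1 →
      2 * a ≤ finrank (ZMod 2) V ∧ a ≤ finrank (ZMod 2) (LinearMap.range (ρ s - 1)) := by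
    intro s hs hs1
    obtain ⟨j, hj⟩ := S.isPGroup' ⟨s, hs⟩
    have hj' : (f ⟨s, hSK hs⟩) ^ 2 ^ j = 1 := by
      rw [← map_pow, show (⟨s, hSK hs⟩ : K) ^ 2 ^ j = 1 from Subtype.ext (by
        simpa using congrArg Subtype.val hj), map_one]
    have hVp : IsPGroup 2 V' := fun v => ⟨1, Subtype.ext (by simpa using hV.2 v v.2)⟩
    have h := PushingUp.module_bounds_normal (n := a) V' hVp H' hf
      (e'.toMonoidHom.comp (QuotientGroup.mk' _))
      (e'.surjective.comp (QuotientGroup.mk'_surjective _)) ha hF (f ⟨s, hSK hs⟩)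
      (fun h => hs1 (congrArg Subtype.val ((map_eq_one_iff f f.injective).1 (inj_of_twoGroup e' hj' h))))
      ⟨j, hj'⟩
    rw [hcard, hidx] at h
    refine ⟨?_, (Nat.pow_le_pow_iff_right one_lt_two).1 h.2⟩
    rw [mul_comm]
    exact (Nat.pow_le_pow_iff_right one_lt_two).1 (by rw [pow_mul]; exact h.1)
  have hk : ∀ k : ℕ, Nat.card (S : Subgroup G) = 2 ^ k → k ≤ a := by
    intro k hk
    obtain ⟨P, ⟨eP⟩⟩ := exists_sylow_equiv S hSK e
    have := PushingUp.card_pSubgroup_dvd (by omega : 1 ≤ a) hF (P : Subgroup _) P.isPGroup'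
    rw [← Nat.card_congr eP.toEquiv, hk] at this
    exact (Nat.pow_le_pow_iff_right one_lt_two).1 this
  refine ⟨fun k hk' => ?_, fun n _ hn s hs hs1 => ?_⟩
  · rcases Nat.eq_zero_or_pos k with rfl | hk0
    · exact Nat.zero_le _
    have : Nontrivial (S : Subgroup G) := Finite.one_lt_card_iff_nontrivial.1
      (hk' ▸ Nat.one_lt_pow hk0.ne' one_lt_two)
    obtain ⟨s, hs⟩ := exists_ne (1 : (S : Subgroup G))
    exact (Nat.mul_le_mul_left 2 (hk k hk')).trans (key s s.2 fun h => hs (Subtype.ext h)).1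
  · obtain ⟨k, hk'⟩ := S.isPGroup'.exists_card_eq
    have : 2 ^ n ≤ 2 ^ k := hn ▸ hk' ▸ Subgroup.card_le_of_le inf_le_left
    exact ((Nat.pow_le_pow_iff_right one_lt_two).1 this).trans ((hk k hk').trans (key s hs hs1).2)

theorem bounds_suzuki (ρ : G →* Module.End (ZMod 2) V) (hρ : Function.Injective ρ) (S : Sylow 2 G)
    {K : Subgroup G} (hSK : (S : Subgroup G) ≤ K) {F : Type*} [Field F] [Fintype F] {m : ℕ} (hm : 1 ≤ m)
    (hF : Fintype.card F = 2 ^ (2 * m + 1))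
    (e : K ⧸ pPrimeCore 2 K ≃* ↥(Cfsg.Lie.Sz F (2 ^ (m + 1)))) :
    Bounds ρ (S : Subgroup G) := by
  haveI : Fact (Nat.Prime 2) := ⟨Nat.prime_two⟩
  haveI : CharP F 2 := Suzuki.charP_two hF
  obtain ⟨W, _, _, V', H', f, hN, hV, hf, hcard, hidx⟩ := exists_ambient ρ hρ K
  obtain ⟨e'⟩ := exists_quotient_equiv f e
  haveI := hN
  have hT := Suzuki.titsEndo_theta hm hF
  obtain ⟨P, ⟨eP⟩⟩ := exists_sylow_equiv S hSK
    (e.trans ((Suzuki.lieSzEquiv hm hF).symm.trans (MulEquiv.subgroupCongr (Suzuki.sz_eq (F := F) (m := m)))))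
  have hq : Nat.card F = 2 ^ (2 * m + 1) := by rw [Nat.card_eq_fintype_card, hF]
  have hS : Nat.card (S : Subgroup G) = 2 ^ (2 * (2 * m + 1)) := by
    rw [Nat.card_congr eP.toEquiv, (Suzuki.sylow_two_structure hT P).1, hq, ← pow_mul, mul_comm]
  have hcen : ∀ s : (S : Subgroup G), s * s = 1 → s ∈ Subgroup.center (S : Subgroup G) := by
    intro s hs
    obtain ⟨g⟩ := Suzuki.sylow_equiv hT P
    set E := eP.trans g with hE
    obtain ⟨c, b, hcb⟩ := Suzuki.uU_surj hT (E s)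
    have h : E s * E s = 1 := by rw [← map_mul, hs, map_one]
    rw [hcb, Suzuki.uU_mul, ← Suzuki.uU_zero hT, Suzuki.uU_inj] at h
    have hc : c = 0 := by
      have h2 := h.2
      rw [CharTwo.add_self_eq_zero, zero_add, mul_eq_zero] at h2
      rcases h2 with h2 | h2
      · exact (map_eq_zero _).1 h2
      · exact h2
    have hz : E s ∈ Subgroup.center (Suzuki.uGrp hT) := by
      rw [Suzuki.center_eq, hcb, hc]
      exact ⟨b, rfl⟩
    rw [Subgroup.mem_center_iff] at hz ⊢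
    exact fun y => E.injective (by rw [map_mul, map_mul]; exact hz (E y))
  have key : ∀ s ∈ (S : Subgroup G), s ≠ 1 → 4 * (2 * m + 1) ≤ finrank (ZMod 2) V ∧
      2 * (2 * m + 1) ≤ finrank (ZMod 2) (LinearMap.range (ρ s - 1)) := by
    intro s hs hs1
    obtain ⟨j, hu1, hu2⟩ := exists_pow_involution S hs hs1
    have huS := (S : Subgroup G).pow_mem hs j
    set u := s ^ j with hu
    obtain ⟨hS1, hS2, hS3, hS4⟩ := transport S hSK f hcen huS hu1 hu2
    have h := PushingUp.module_bounds_suzuki V' H' hV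
      (fun x _ => (Subgroup.normalizer_eq_top_iff.2 hN).symm ▸ Subgroup.mem_top x) hf hm hF e'
      ((S.subtype hSK).mapSurjective (f := f.toMonoidHom) f.surjective) _ hS1 hS2 hS3 hS4
    rw [hcard, hidx, ← pow_mul] at h
    refine ⟨(Nat.pow_le_pow_iff_right one_lt_two).1 h.1, ?_⟩
    have h1 : 4 * (2 * m + 1) ≤ finrank (ZMod 2) (LinearMap.range (ρ (s ^ j) - 1)) * 2 :=
      (Nat.pow_le_pow_iff_right one_lt_two).1 h.2
    have h2 := Submodule.finrank_mono (range_pow_le ρ s j)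
    omega
  refine ⟨fun k hk' => ?_, fun n _ hn s hs hs1 => ?_⟩
  · have hk := Nat.pow_right_injective le_rfl (hS.symm.trans hk')
    have : Nontrivial (S : Subgroup G) := Finite.one_lt_card_iff_nontrivial.1
      (hS ▸ Nat.one_lt_pow (by omega) one_lt_two)
    obtain ⟨s, hs⟩ := exists_ne (1 : (S : Subgroup G))
    have := (key s s.2 fun h => hs (Subtype.ext h)).1
    omega
  · have h1 : 2 ^ n ≤ 2 ^ (2 * (2 * m + 1)) := hn ▸ hS ▸ Subgroup.card_le_of_le inf_le_left
    exact ((Nat.pow_le_pow_iff_right one_lt_two).1 h1).trans (key s hs hs1).2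

theorem bounds_psu (ρ : G →* Module.End (ZMod 2) V) (hρ : Function.Injective ρ) (S : Sylow 2 G)
    {K : Subgroup G} (hSK : (S : Subgroup G) ≤ K) {F : Type*} [Field F] [Fintype F] {a : ℕ} (ha : 2 ≤ a)
    (hF : Fintype.card F = (2 ^ a) ^ 2) (e : K ⧸ pPrimeCore 2 K ≃* PSU 3 F (2 ^ a)) :
    Bounds ρ (S : Subgroup G) := by
  haveI : Fact (Nat.Prime 2) := ⟨Nat.prime_two⟩
  obtain ⟨W, _, _, V', H', f, hN, hV, hf, hcard, hidx⟩ := exists_ambient ρ hρ K
  obtain ⟨e'⟩ := exists_quotient_equiv f e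
  haveI := hN
  obtain ⟨P, ⟨eP⟩⟩ := exists_sylow_equiv S hSK e
  obtain ⟨hP, hZ, hSuz⟩ := Cfsg.Agent.S1141.result ha hF P
  have hS : Nat.card (S : Subgroup G) = 2 ^ (3 * a) := by
    rw [Nat.card_congr eP.toEquiv, hP, ← pow_mul, mul_comm]
  have hZS : Nat.card (Subgroup.center (S : Subgroup G)) = 2 ^ a := by
    rw [Nat.card_congr (Subgroup.centerCongr eP).toEquiv, hZ]
  have hcen : ∀ s : (S : Subgroup G), s * s = 1 → s ∈ Subgroup.center (S : Subgroup G) := by
    intro s hs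
    by_cases hs1 : s = 1
    · rw [hs1]; exact one_mem _
    have h := (((Cfsg.Agent.S1137.result hSuz).1 (eP s)).1
      ⟨(map_ne_one_iff eP eP.injective).2 hs1, by rw [← map_mul, hs, map_one]⟩).1
    rw [Subgroup.mem_center_iff] at h ⊢
    exact fun y => eP.injective (by rw [map_mul, map_mul]; exact h (eP y))
  have key : ∀ s ∈ (S : Subgroup G), s ≠ 1 → 6 * a ≤ finrank (ZMod 2) V ∧
      2 * a ≤ finrank (ZMod 2) (LinearMap.range (ρ s - 1)) := by
    intro s hs hs1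
    obtain ⟨j, hu1, hu2⟩ := exists_pow_involution S hs hs1
    have huS := (S : Subgroup G).pow_mem hs j
    obtain ⟨hS1, hS2, hS3, -⟩ := transport S hSK f hcen huS hu1 hu2
    have h := PushingUp.module_bounds_psu (p := 2) V' H' hV
      (fun x _ => (Subgroup.normalizer_eq_top_iff.2 hN).symm ▸ Subgroup.mem_top x) hf hF
      (dvd_pow_self 2 (by omega)) (by
        intro h
        have := Nat.pow_right_injective le_rfl (h.trans (pow_one 2).symm)
        omega) e'
      ((S.subtype hSK).mapSurjective (f := f.toMonoidHom) f.surjective)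
    obtain ⟨h1, h2⟩ := h
    have h2' := h2 _ hS1 hS3 hS2
    rw [hidx, ← pow_mul, ← pow_mul] at h2'
    rw [hcard, ← pow_mul] at h1
    have h1' := (Nat.pow_le_pow_iff_right one_lt_two).1 h1
    have h2'' : a * 6 ≤ finrank (ZMod 2) (LinearMap.range (ρ (s ^ j) - 1)) * 3 :=
      (Nat.pow_le_pow_iff_right one_lt_two).1 h2'
    have h3 := Submodule.finrank_mono (range_pow_le ρ s j)
    omega
  refine ⟨fun k hk' => ?_, fun n _ hn s hs hs1 => ?_⟩
  · have hk := Nat.pow_right_injective le_rfl (hS.symm.trans hk')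
    have : Nontrivial (S : Subgroup G) := Finite.one_lt_card_iff_nontrivial.1
      (hS ▸ Nat.one_lt_pow (by omega) one_lt_two)
    obtain ⟨s, hs⟩ := exists_ne (1 : (S : Subgroup G))
    have := (key s s.2 fun h => hs (Subtype.ext h)).1
    omega
  · rw [card_center_eq, hZS] at hn
    have := Nat.pow_right_injective le_rfl hn
    have := (key s hs hs1).2
    omega

end CfsgLib.SEModuleBound
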