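import Cfsg.Agent.SEModuleBound.RankOne
import Cfsg.Agent.SEModuleBound.Families
import Cfsg.Agent.StronglyEmbedded.Basic
import Cfsg.Agent.PSL2Unique.Basic
import Cfsg.Agent.Eq.Def_Amalgam

/-!
Faithful representations over the field with two elements of a group with a strongly embedded
subgroup: `dim V ≥ 2k` for `|S| = 2^k`, and `rank (s - 1) ≥ n` for `|Z(S)| = 2^n` elementary, from
the structure theorem of Bender for the group.
-/

set_option autoImplicit false
set_option linter.style.haveILetI false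

namespace CfsgLib.SEModuleBound

open Cfsg Module

universe u v

/-- The structure given by Bender's theorem. -/
def BenderStructure (G : Type u) [Group G] : Prop :=
  (∀ t : G, orderOf t = 2 → pPrimeCore 2 G ⊔ Subgroup.centralizer ({t} : Set G) = ⊤ ∧
      ∀ u ∈ Subgroup.centralizer ({t} : Set G), orderOf u = 2 → u = t) ∨
    (∃ (F : Type) (_ : Field F) (_ : Fintype F), CharP F 2 ∧ 4 ≤ Fintype.card F ∧
      Nonempty (↥(pElementClosure 2 (⊤ : Subgroup (G ⧸ pPrimeCore 2 G))) ≃*
        Matrix.SpecialLinearGroup (Fin 2) F)) ∨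
    (∃ (F : Type) (_ : Field F) (_ : Fintype F) (q : ℕ), Even q ∧ 4 ≤ q ∧ Fintype.card F = q ^ 2 ∧
      Nonempty (↥(pElementClosure 2 (⊤ : Subgroup (G ⧸ pPrimeCore 2 G))) ≃* PSU 3 F q)) ∨
    Lie.IsoSuzuki ↥(pElementClosure 2 (⊤ : Subgroup (G ⧸ pPrimeCore 2 G)))

variable {G : Type u} [Group G] [Finite G] {V : Type v} [AddCommGroup V] [Module (ZMod 2) V]
  [FiniteDimensional (ZMod 2) V]

theorem bounds_rankOne (ρ : G →* Module.End (ZMod 2) V) (hρ : Function.Injective ρ) {H : Subgroup G}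
    (hH : IsStronglyEmbedded H) (S : Sylow 2 G)
    (h1 : ∀ t : G, orderOf t = 2 → pPrimeCore 2 G ⊔ Subgroup.centralizer ({t} : Set G) = ⊤ ∧
      ∀ u ∈ Subgroup.centralizer ({t} : Set G), orderOf u = 2 → u = t) :
    Bounds ρ (S : Subgroup G) := by
  haveI : Fact (Nat.Prime 2) := ⟨Nat.prime_two⟩
  haveI : (pPrimeCore 2 G).Normal := pPrimeCore_normal 2 G
  have h2 : 2 ∣ Nat.card G :=
    (even_iff_two_dvd.1 hH.2.1).trans (Subgroup.card_subgroup_dvd_card H)
  haveI : Nontrivial (S : Subgroup G) :=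
    (Subgroup.nontrivial_iff_ne_bot _).2 (S.ne_bot_of_dvd_card h2)
  haveI := S.isPGroup'.center_nontrivial
  have h2d : 2 ∣ Nat.card (Subgroup.center (S : Subgroup G)) := by
    obtain ⟨j, hj⟩ := (S.isPGroup'.to_subgroup (Subgroup.center (S : Subgroup G))).exists_card_eq
    rw [hj]
    refine dvd_pow_self 2 fun h0 => ?_
    have := Finite.one_lt_card (α := Subgroup.center (S : Subgroup G))
    rw [hj, h0, pow_zero] at this; omega
  obtain ⟨⟨⟨t, htS⟩, htc⟩, ht2⟩ := exists_prime_orderOf_dvd_card' 2 h2d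
  rw [Subgroup.orderOf_mk, Subgroup.orderOf_mk] at ht2
  obtain ⟨hsup, huC⟩ := h1 t ht2
  have huniq : ∀ y ∈ (S : Subgroup G), orderOf y = 2 → y = t := fun y hy hy2 =>
    huC y (Subgroup.mem_centralizer_singleton_iff.2
      (congrArg Subtype.val (Subgroup.mem_center_iff.1 htc ⟨y, hy⟩))) hy2
  have htO : t ∉ Subgroup.centralizer (pPrimeCore 2 G : Set G) := by
    intro h
    have hle : pPrimeCore 2 G ≤ Subgroup.centralizer ({t} : Set G) := fun x hx =>
      Subgroup.mem_centralizer_singleton_iff.2 (Subgroup.mem_centralizer_iff.1 h x hx)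
    rw [sup_eq_right.2 hle] at hsup
    obtain ⟨x, hx, hx2⟩ := StronglyEmbedded.exists_involution hH
    have hxt : x = t := huC x (by rw [hsup]; exact Subgroup.mem_top x) hx2
    refine hH.1 (eq_top_iff.2 fun g _ => ?_)
    exact StronglyEmbedded.centralizer_le hH hx2 hx (by rw [hxt, hsup]; exact Subgroup.mem_top g)
  refine ⟨fun k hk => two_mul_le_finrank ρ hρ (pPrimeCore 2 G)
    (Nat.not_even_iff_odd.1 fun h => Constrained.pPrimeCore_not_dvd (p := 2) (even_iff_two_dvd.1 h))
    _ S.isPGroup' ht2 htS huniq htO hk, fun n hel hn s _ hs1 => ?_⟩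
  have hn1 : n ≤ 1 := by
    have hsub : (((S : Subgroup G) ⊓ Subgroup.centralizer ((S : Subgroup G) : Set G) : Subgroup G) :
        Set G) ⊆ {1, t} := by
      intro z hz
      by_cases hz1 : z = 1
      · exact Or.inl hz1
      · exact Or.inr (huniq z hz.1 (orderOf_eq_prime (hel z hz) hz1))
    have hc := (Set.ncard_le_ncard hsub (Set.toFinite _)).trans (Set.ncard_insert_le _ _)
    rw [Set.ncard_singleton, ← Nat.card_coe_set_eq] at hc
    change Nat.card ↥((S : Subgroup G) ⊓ Subgroup.centralizer ((S : Subgroup G) : Set G)) ≤ 1 + 1 at hc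
    rw [hn] at hc
    exact (Nat.pow_le_pow_iff_right one_lt_two).1 (hc.trans (le_of_eq (by norm_num)))
  refine hn1.trans (Nat.one_le_iff_ne_zero.2 fun h0 => hs1 (hρ ?_))
  rw [Submodule.finrank_eq_zero, LinearMap.range_eq_bot, sub_eq_zero] at h0
  rw [h0, map_one]

/-- The preimage of the subgroup generated by the 2-elements of the quotient by the core. -/
theorem exists_preimage (S : Sylow 2 G) :
    ∃ K : Subgroup G, (S : Subgroup G) ≤ K ∧ Nonempty (K ⧸ pPrimeCore 2 K ≃*
      ↥(pElementClosure 2 (⊤ : Subgroup (G ⧸ pPrimeCore 2 G)))) := by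
  haveI : Fact (Nat.Prime 2) := ⟨Nat.prime_two⟩
  haveI : (pPrimeCore 2 G).Normal := pPrimeCore_normal 2 G
  set O := pPrimeCore 2 G with hO
  set L := pElementClosure 2 (⊤ : Subgroup (G ⧸ O)) with hL
  haveI : L.Normal := by
    have hmem : ∀ (g : G ⧸ O), ∀ x ∈ L, g * x * g⁻¹ ∈ L := by
      intro g x hx
      induction hx using Subgroup.closure_induction with
      | mem y hy =>
        obtain ⟨-, k, hk⟩ := hy
        exact Subgroup.subset_closure ⟨Subgroup.mem_top _, k, by
          rw [← MulAut.conj_apply, MulEquiv.orderOf_eq]; exact hk⟩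
      | one => simp
      | mul a b _ _ ha hb => rw [show g * (a * b) * g⁻¹ = g * a * g⁻¹ * (g * b * g⁻¹) by group]
                             exact L.mul_mem ha hb
      | inv a _ ha => rw [show g * a⁻¹ * g⁻¹ = (g * a * g⁻¹)⁻¹ by group]; exact L.inv_mem ha
    exact ⟨fun x hx g => hmem g x hx⟩
  set K := L.comap (QuotientGroup.mk' O) with hK
  refine ⟨K, fun s hs => ?_, ?_⟩
  · rw [hK, Subgroup.mem_comap]
    obtain ⟨j, hj⟩ := S.isPGroup' ⟨s, hs⟩
    obtain ⟨i, -, hi⟩ := (Nat.dvd_prime_pow Nat.prime_two).1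
      ((orderOf_map_dvd (QuotientGroup.mk' O) s).trans
        (orderOf_dvd_of_pow_eq_one (show s ^ 2 ^ j = 1 by simpa using congrArg Subtype.val hj)))
    exact Subgroup.subset_closure ⟨Subgroup.mem_top _, i, hi⟩
  have hOK : O ≤ K := fun x hx => by
    rw [hK, Subgroup.mem_comap, QuotientGroup.mk'_apply, (QuotientGroup.eq_one_iff x).2 hx]
    exact L.one_mem
  let π : K →* L := (QuotientGroup.mk' O).subgroupComap L
  have hπ : Function.Surjective π := fun ⟨y, hy⟩ => by
    obtain ⟨x, rfl⟩ := QuotientGroup.mk'_surjective O y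
    exact ⟨⟨x, hy⟩, rfl⟩
  have hker : pPrimeCore 2 K = π.ker := by
    refine le_antisymm (fun x hx => ?_) ?_
    · haveI : (pPrimeCore 2 K).Characteristic :=
        Subgroup.characteristic_iff_map_eq.mpr fun e => Balance.pPrimeCore_map e 2
      haveI : K.Normal := Subgroup.Normal.comap inferInstance _
      have hle : (pPrimeCore 2 K).map K.subtype ≤ O := by
        refine le_sSup ⟨inferInstance, ?_⟩
        rw [← Nat.card_congr (Subgroup.equivMapOfInjective _ _ K.subtype_injective).toEquiv,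
          Nat.coprime_comm]
        exact Nat.prime_two.coprime_iff_not_dvd.2 Constrained.pPrimeCore_not_dvd
      rw [MonoidHom.mem_ker]
      exact Subtype.ext ((QuotientGroup.eq_one_iff _).2 (hle ⟨x, hx, rfl⟩))
    · refine le_sSup ⟨inferInstance, ?_⟩
      have hmap : π.ker.map K.subtype ≤ O := by
        rintro _ ⟨x, hx, rfl⟩
        exact (QuotientGroup.eq_one_iff _).1 (congrArg Subtype.val (MonoidHom.mem_ker.1 hx))
      rw [Nat.card_congr (Subgroup.equivMapOfInjective _ _ K.subtype_injective).toEquiv,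
        Nat.coprime_comm]
      exact Nat.prime_two.coprime_iff_not_dvd.2 fun h =>
        Constrained.pPrimeCore_not_dvd (h.trans (Subgroup.card_dvd_of_le hmap))
  exact ⟨(QuotientGroup.quotientMulEquivOfEq hker).trans
    (QuotientGroup.quotientKerEquivOfSurjective π hπ)⟩

/-- The bounds from Bender's structure theorem. -/
theorem bounds_of_structure (ρ : G →* Module.End (ZMod 2) V) (hρ : Function.Injective ρ) {H : Subgroup G}
    (hH : IsStronglyEmbedded H) (hstr : BenderStructure G) (S : Sylow 2 G) :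
    Bounds ρ (S : Subgroup G) := by
  obtain ⟨K, hSK, ⟨e⟩⟩ := exists_preimage S
  rcases hstr with h | ⟨F, _, _, _, h4, ⟨e'⟩⟩ | ⟨F, _, _, q, hq, hq4, hF, ⟨e'⟩⟩ |
      ⟨F, _, _, m, hm, hF, ⟨e'⟩⟩
  · exact bounds_rankOne ρ hρ hH S h
  · obtain ⟨n, -, hn⟩ := FiniteField.card F 2
    have hbot : Subgroup.center (Matrix.SpecialLinearGroup (Fin 2) F) = ⊥ := CfsgLib.SL2.center_eq_bot
    refine bounds_psl ρ hρ S hSK (a := n) ?_ hn ((e.trans e').trans
      ((QuotientGroup.quotientMulEquivOfEq hbot).trans QuotientGroup.quotientBot).symm)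
    by_contra hlt
    have := Nat.pow_le_pow_right two_pos (show (n : ℕ) ≤ 1 by omega)
    omega
  · obtain ⟨p, hchar⟩ := CharP.exists F
    obtain ⟨n, hp, hn⟩ := FiniteField.card F p
    rw [hF] at hn
    have h2 : 2 ∣ p ^ (n : ℕ) := hn ▸ (even_iff_two_dvd.1 hq).trans (dvd_pow_self q two_ne_zero)
    obtain rfl : p = 2 := ((Nat.prime_dvd_prime_iff_eq Nat.prime_two hp).1
      (Nat.prime_two.dvd_of_dvd_pow h2)).symm
    obtain ⟨a, -, rfl⟩ := (Nat.dvd_prime_pow Nat.prime_two).1 (hn ▸ dvd_pow_self q two_ne_zero)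
    refine bounds_psu ρ hρ S hSK (a := a) ?_ hF (e.trans e')
    by_contra hlt
    have := Nat.pow_le_pow_right two_pos (show a ≤ 1 by omega)
    omega
  · exact bounds_suzuki ρ hρ S hSK hm hF (e.trans e')

end CfsgLib.SEModuleBound
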