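import Cfsg.Agent.HallHigmanB.Linear
import Cfsg.Agent.StrongEmb.Inverted
import Cfsg.Agent.TwoGroup.UniqueInvolution
import Mathlib.GroupTheory.SpecificGroups.Quaternion

/-!
A 2-group with a single involution which moves a normal subgroup of odd order, acting faithfully
over the field with two elements: the dimension is at least twice the exponent of its order.
-/

set_option autoImplicit false
set_option linter.style.haveILetI false

namespace CfsgLib.SEModuleBound

open Cfsg Module

universe u v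

variable {G : Type u} [Group G] [Finite G] {V : Type v} [AddCommGroup V] [Module (ZMod 2) V]
  [FiniteDimensional (ZMod 2) V]

/-- The product giving the order of the general linear group over the field with two elements. -/
def glCard (d : ℕ) : ℕ := ∏ i : Fin d, (2 ^ d - 2 ^ (i : ℕ))

theorem card_dvd_glCard {R : Type*} [Group R] [Finite R] (f : R →* Module.End (ZMod 2) V)
    (hf : Function.Injective f) : Nat.card R ∣ glCard (finrank (ZMod 2) V) := by
  let b := Module.finBasis (ZMod 2) V
  let g : R →* Matrix (Fin (finrank (ZMod 2) V)) (Fin (finrank (ZMod 2) V)) (ZMod 2) :=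
    (LinearMap.toMatrixAlgEquiv b).toRingEquiv.toMonoidHom.comp f
  have hg : Function.Injective g.toHomUnits := fun x y h =>
    hf ((LinearMap.toMatrixAlgEquiv b).injective (congrArg Units.val h))
  have := Subgroup.card_dvd_of_injective g.toHomUnits hg
  rwa [Matrix.card_GL_field, ZMod.card] at this

theorem cube_dvd_of_noncomm {q : ℕ} [hq : Fact q.Prime] {R : Subgroup G} (hR : IsPGroup q R)
    (hne : ∃ a b : R, a * b ≠ b * a) : q ^ 3 ∣ Nat.card R := by
  obtain ⟨a, b, hab⟩ := hne
  obtain ⟨j, hj⟩ := hR.exists_card_eq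
  rw [hj]
  refine pow_dvd_pow q ?_
  by_contra h
  interval_cases j
  · exact hab (haveI := (Nat.card_eq_one_iff_unique.1 hj).1; Subsingleton.elim _ _)
  · haveI := isCyclic_of_prime_card (p := q) (by simpa using hj)
    exact hab (IsCyclic.commGroup.mul_comm a b)
  · exact hab ((IsPGroup.commGroupOfCardEqPrimeSq (p := q) hj).mul_comm a b)

/-- A prime-power subgroup of a normal subgroup of odd order, invariant under the 2-group and moved
by `t`. -/
theorem exists_moved (O : Subgroup G) [O.Normal] (hO : Odd (Nat.card O)) (S : Subgroup G)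
    (hS : IsPGroup 2 S) {t : G} (ht : t ∉ Subgroup.centralizer (O : Set G)) :
    ∃ q : ℕ, q.Prime ∧ q ≠ 2 ∧ ∃ R : Subgroup G, IsPGroup q R ∧ Odd (Nat.card R) ∧
      S ≤ Subgroup.normalizer (R : Set G) ∧ ∃ r ∈ R, t * r * t⁻¹ ≠ r := by
  classical
  by_contra hcon
  push Not at hcon
  haveI : Fact (Nat.Prime 2) := ⟨Nat.prime_two⟩
  have hcop : (Nat.card S).Coprime (Nat.card O) := by
    obtain ⟨j, hj⟩ := hS.exists_card_eq
    rw [hj]; exact (Nat.coprime_two_left.2 hO).pow_left j
  have hsolv : Group.IsSolvable S := by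
    haveI := hS.isNilpotent
    infer_instance
  have hnorm : S ≤ Subgroup.normalizer (O : Set G) := fun g _ => by
    rw [Subgroup.normalizer_eq_top_iff.2 inferInstance]
    exact Subgroup.mem_top g
  set C := O ⊓ Subgroup.centralizer ({t} : Set G) with hC
  have hle : ∀ q : ℕ, q.Prime → q ^ (Nat.card O).factorization q ∣ Nat.card C := by
    intro q hq
    haveI := Fact.mk hq
    by_cases hdvd : q ∣ Nat.card O
    · obtain ⟨P, hP⟩ := CfsgLib.Coprime.exists_invariant_sylow hnorm hcop (Or.inl hsolv) (p := q)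
      rw [← P.card_eq_multiplicity, Nat.card_congr
        ((P : Subgroup O).equivMapOfInjective O.subtype O.subtype_injective).toEquiv]
      refine Subgroup.card_dvd_of_le (le_inf (Subgroup.map_subtype_le _) fun s hs => ?_)
      rw [Subgroup.mem_centralizer_singleton_iff]
      have hq2 : q ≠ 2 := fun h =>
        (Nat.not_even_iff_odd.2 hO) (even_iff_two_dvd.2 (h ▸ hdvd))
      have hodd : Odd (Nat.card ((P : Subgroup O).map O.subtype)) :=
        Odd.of_dvd_nat hO (Subgroup.card_dvd_of_le (Subgroup.map_subtype_le _))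
      have h := hcon q hq hq2 _ (P.2.map O.subtype) hodd hP s hs
      calc s * t = t * s * t⁻¹ * t := by rw [h]
        _ = t * s := inv_mul_cancel_right _ _
    · rw [Nat.factorization_eq_zero_of_not_dvd hdvd, pow_zero]
      exact one_dvd _
  have hdvd : Nat.card O ∣ Nat.card C := by
    rw [← Nat.factorization_le_iff_dvd Nat.card_pos.ne' Nat.card_pos.ne']
    intro q
    by_cases hq : q.Prime
    · exact (hq.pow_dvd_iff_le_factorization Nat.card_pos.ne').1 (hle q hq)
    · rw [Nat.factorization_eq_zero_of_not_prime _ hq]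
      exact Nat.zero_le _
  have hCO : C = O := Subgroup.eq_of_le_of_card_ge inf_le_left (Nat.le_of_dvd Nat.card_pos hdvd)
  refine ht (Subgroup.mem_centralizer_iff.2 fun s hs => ?_)
  exact Subgroup.mem_centralizer_singleton_iff.1 ((hCO.symm ▸ hs : s ∈ C)).2

/-- Theorem B for one element acting on a subgroup of prime power order. -/
theorem nil_degree (ρ : G →* Module.End (ZMod 2) V) (hρ : Function.Injective ρ) {q : ℕ}
    [hq : Fact q.Prime] (hq2 : q ≠ 2) {R : Subgroup G} (hR : IsPGroup q R) {x : G} {n : ℕ} (hn : 1 ≤ n)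
    (hx : orderOf x = 2 ^ n) (hxR : x ∈ Subgroup.normalizer (R : Set G))
    (hmov : ∃ s ∈ R, x ^ 2 ^ (n - 1) * s * (x ^ 2 ^ (n - 1))⁻¹ ≠ s) (r : ℕ) (hr : (ρ x - 1) ^ r = 0) :
    2 ^ n ≤ r ∨ ∃ n₀ m : ℕ, 2 ≤ n₀ ∧ n₀ ≤ n ∧ 2 ^ n₀ - 1 = q ^ m ∧ (∃ a b : R, a * b ≠ b * a) ∧
      2 ^ (n - n₀) * (2 ^ n₀ - 1) ≤ r := by
  classical
  haveI : Fact (Nat.Prime 2) := ⟨Nat.prime_two⟩
  have hinv : ∀ s ∈ R, MulAut.conj x s ∈ R := fun s hs => (Subgroup.mem_normalizer_iff.1 hxR s).1 hs
  set σ := HallHigmanB.restrictAut (MulAut.conj x) R hinv with hσ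
  have hσi : ∀ (i : ℕ) (s : R), (((σ ^ i) s : R) : G) = x ^ i * s * (x ^ i)⁻¹ := fun i s => by
    rw [hσ, HallHigmanB.restrictAut_pow_coe, ← map_pow, MulAut.conj_apply]
  obtain ⟨φ, hφ⟩ := HallHigmanB.exists_extendScalars (ZMod 2) V
  haveI : CharP (AlgebraicClosure (ZMod 2)) 2 := inferInstance
  let L : R →* Module.End (AlgebraicClosure (ZMod 2))
      (Fin (finrank (ZMod 2) V) → AlgebraicClosure (ZMod 2)) :=
    (φ.toMonoidHom.comp ρ).comp R.subtype
  have hxP : x ^ (2 ^ n) = 1 := hx ▸ pow_orderOf_eq_one x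
  have hmain := HallHigmanB.hallHigmanB_aux (k := AlgebraicClosure (ZMod 2)) (p := 2) (q := q)
    (Ne.symm hq2) _ R (Fin (finrank (ZMod 2) V) → AlgebraicClosure (ZMod 2)) σ n L (φ (ρ x)) r rfl hn hR
    ?_ ?_ ?_ ?_ ?_
  · rcases hmain with h | ⟨n₀, m, h1, h2, h3, h4, hab, h5⟩
    · exact Or.inl h
    · refine Or.inr ⟨n₀, m, ?_, h2, h4, hab, h5⟩
      by_contra hc
      obtain rfl : n₀ = 1 := by omega
      have := Nat.one_lt_pow (show m ≠ 0 by omega) hq.out.one_lt
      omega
  · ext s
    rw [hσi, hxP, one_mul, inv_one, mul_one]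
    rfl
  · rw [← map_pow, ← map_pow, hxP, map_one, map_one]
  · intro s
    show φ (ρ x) * φ (ρ (s : G)) = φ (ρ ((σ s : R) : G)) * φ (ρ x)
    have h1 := hσi 1 s
    rw [pow_one, pow_one] at h1
    rw [← map_mul, ← map_mul, ← map_mul, ← map_mul, h1, inv_mul_cancel_right]
  · obtain ⟨s₀, hs₀, hys₀⟩ := hmov
    refine ⟨⟨s₀, hs₀⟩, fun h => hys₀ ?_⟩
    have h1 : ((σ ^ (2 ^ (n - 1))) ⟨s₀, hs₀⟩ : R) = ⟨s₀, hs₀⟩ := Subtype.ext (hρ (hφ h))
    have h2 := congrArg Subtype.val h1
    rwa [hσi] at h2
  · rw [← map_one φ, ← map_sub, ← map_pow, hr, map_zero]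

theorem pow_finrank_sub_one {n : ℕ} (T : Module.End (ZMod 2) V) (hT : T ^ 2 ^ n = 1) :
    (T - 1) ^ finrank (ZMod 2) V = 0 := by
  haveI : Fact (Nat.Prime 2) := ⟨Nat.prime_two⟩
  have hnil : IsNilpotent (T - 1) :=
    ⟨2 ^ n, by rw [HallHigmanB.sub_one_pow_char_pow, hT, sub_self]⟩
  obtain ⟨j, hj⟩ := hnil
  have h := Module.End.ker_pow_eq_ker_pow_finrank_of_le (f := T - 1)
    (le_max_right j (finrank (ZMod 2) V))
  rw [pow_eq_zero_of_le (le_max_left _ _) hj, LinearMap.ker_zero] at h
  exact LinearMap.ker_eq_top.1 h.symm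

/-- A 2-group of order at least 8 with one involution `t`, all whose elements of order four act with
`(x - 1) ^ 3 ≠ 0`, needs dimension six. -/
theorem six_le (ρ : G →* Module.End (ZMod 2) V) (S : Subgroup G) (hS : IsPGroup 2 S)
    {t : G} (ht : orderOf t = 2) (htS : t ∈ S) (huniq : ∀ y ∈ S, orderOf y = 2 → y = t)
    (h8 : 8 ≤ Nat.card S) (hfour : ∀ x ∈ S, orderOf x = 4 → (ρ x - 1) ^ 3 ≠ 0) :
    6 ≤ finrank (ZMod 2) V := by
  classical
  haveI : Fact (Nat.Prime 2) := ⟨Nat.prime_two⟩
  by_contra hd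
  set N := ρ t - 1 with hN
  have hN2 : N * N = 0 := by
    have h := HallHigmanB.sub_one_pow_char_pow (p := 2) (ρ t) 1
    rw [pow_one, ← map_pow, show t ^ 2 = 1 from ht ▸ pow_orderOf_eq_one t, map_one, sub_self,
      pow_two] at h
    exact h
  set W := LinearMap.range N with hW
  have hker : W ≤ LinearMap.ker N := by
    rintro _ ⟨v, rfl⟩
    rw [LinearMap.mem_ker, ← Module.End.mul_apply, hN2, LinearMap.zero_apply]
  have hW2 : finrank (ZMod 2) W ≤ 2 := by
    have h1 := LinearMap.finrank_range_add_finrank_ker N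
    rw [← hW] at h1
    have h2 := Submodule.finrank_mono hker
    omega
  have hcen : ∀ x ∈ S, x * t = t * x := fun x hx => by
    have h := huniq _ (S.mul_mem (S.mul_mem hx htS) (S.inv_mem hx))
      (by rw [← MulAut.conj_apply, MulEquiv.orderOf_eq]; exact ht)
    exact mul_inv_eq_iff_eq_mul.1 h
  have hinv : ∀ x : S, ∀ w ∈ W, ρ (x : G) w ∈ W := by
    rintro x _ ⟨v, rfl⟩
    refine ⟨ρ (x : G) v, ?_⟩
    rw [← Module.End.mul_apply, ← Module.End.mul_apply, hN, sub_mul, mul_sub, one_mul, mul_one,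
      ← map_mul, ← map_mul, hcen x x.2]
  let f : S →* Module.End (ZMod 2) W :=
    { toFun := fun x => (ρ (x : G)).restrict (hinv x)
      map_one' := by
        refine LinearMap.ext fun w => Subtype.ext ?_
        show ρ ((1 : S) : G) (w : V) = w
        rw [OneMemClass.coe_one, map_one, Module.End.one_apply]
      map_mul' := fun x y => by
        refine LinearMap.ext fun w => Subtype.ext ?_
        show ρ ((x * y : S) : G) (w : V) = ρ (x : G) (ρ (y : G) (w : V))
        rw [Subgroup.coe_mul, map_mul, Module.End.mul_apply] }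
  set F := f.toHomUnits with hF
  haveI : Finite F.range := Finite.of_surjective _ F.rangeRestrict_surjective
  have hrange : Nat.card F.range ≤ 2 := by
    let ι : F.range →* Module.End (ZMod 2) W := (Units.coeHom _).comp F.range.subtype
    have hι : Function.Injective ι := fun a b h => Subtype.ext (Units.ext h)
    have hdiv := card_dvd_glCard ι hι
    obtain ⟨j, hj⟩ := (IsPGroup.of_surjective hS F.rangeRestrict F.rangeRestrict_surjective).exists_card_eq
    rw [hj] at hdiv ⊢
    have h6 : glCard (finrank (ZMod 2) W) ∣ 6 := by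
      generalize finrank (ZMod 2) W = w at hW2
      interval_cases w <;> decide
    have h := hdiv.trans h6
    have hle := Nat.le_of_dvd (by norm_num) h
    have hj2 : j ≤ 2 := by
      by_contra hc
      have : 2 ^ 3 ≤ 2 ^ j := Nat.pow_le_pow_right two_pos (by omega)
      omega
    interval_cases j <;> omega
  have hkc : 4 ≤ Nat.card F.ker := by
    have h1 := F.ker.card_mul_index
    rw [Subgroup.index_ker] at h1
    nlinarith
  obtain ⟨y, hy, hy1, hyt⟩ : ∃ y ∈ F.ker, y ≠ 1 ∧ (y : G) ≠ t := by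
    by_contra hall
    push Not at hall
    haveI : Fintype S := Fintype.ofFinite _
    have hsub : (F.ker : Set S) ⊆ {1, ⟨t, htS⟩} := fun y hy => by
      by_cases h : y = 1
      · exact Or.inl h
      · exact Or.inr (Subtype.ext (hall y hy h))
    have h2 := (Set.ncard_le_ncard hsub (Set.toFinite _)).trans (Set.ncard_insert_le _ _)
    rw [Set.ncard_singleton, ← Nat.card_coe_set_eq] at h2
    change Nat.card F.ker ≤ 1 + 1 at h2
    omega
  obtain ⟨j, hj⟩ := hS y
  obtain ⟨i, -, hi⟩ := (Nat.dvd_prime_pow Nat.prime_two).1 (orderOf_dvd_of_pow_eq_one hj)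
  have hi2 : 2 ≤ i := by
    by_contra hc
    interval_cases i
    · exact hy1 (orderOf_eq_one_iff.1 (by simpa using hi))
    · exact hyt (huniq y y.2 (by rw [Subgroup.orderOf_coe]; simpa using hi))
  set x := y ^ 2 ^ (i - 2) with hxdef
  have hxk : x ∈ F.ker := Subgroup.pow_mem _ hy _
  have hxo : orderOf (x : G) = 4 := by
    rw [Subgroup.orderOf_coe, hxdef, orderOf_pow' y (pow_pos two_pos _).ne', hi,
      Nat.gcd_eq_right (pow_dvd_pow 2 (by omega)), Nat.pow_div (by omega) two_pos,
      show i - (i - 2) = 2 by omega]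
    norm_num
  have hx2 : ((x : G)) ^ 2 = t := huniq _ (S.pow_mem x.2 2)
    (by rw [orderOf_pow' _ two_ne_zero, hxo]; norm_num)
  have htriv : (ρ (x : G) - 1) * N = 0 := by
    refine LinearMap.ext fun v => ?_
    have h : f x = 1 := congrArg Units.val (MonoidHom.mem_ker.1 hxk)
    have h2 := congrArg Subtype.val (LinearMap.congr_fun h (⟨N v, v, rfl⟩ : W))
    change ρ (x : G) (N v) = N v at h2
    simp [Module.End.mul_apply, LinearMap.sub_apply, h2]
  refine hfour x x.2 hxo ?_
  have hsq : (ρ (x : G) - 1) ^ 2 = N := by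
    have h := HallHigmanB.sub_one_pow_char_pow (p := 2) (ρ (x : G)) 1
    rw [pow_one, ← map_pow, hx2] at h
    exact h
  rw [pow_succ', hsq, htriv]

/-- A quaternion-type group of order 16 moves a 3-group of order at most 81 only if it is abelian. -/
theorem comm_of_sixteen (S : Subgroup G) (hS : IsPGroup 2 S) {t : G} (ht : orderOf t = 2) (htS : t ∈ S)
    (huniq : ∀ y ∈ S, orderOf y = 2 → y = t) (h16 : Nat.card S = 16) {R : Subgroup G}
    (hR : Nat.card R ∣ 81) (hSR : S ≤ Subgroup.normalizer (R : Set G))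
    (hmov : ∃ r ∈ R, t * r * t⁻¹ ≠ r) : ∀ a b : R, a * b = b * a := by
  classical
  haveI : Fintype G := Fintype.ofFinite G
  have hodd : Odd (Nat.card R) := Odd.of_dvd_nat (by decide) hR
  have hcen : ∀ x ∈ S, x * t = t * x := fun x hx => by
    have h := huniq _ (S.mul_mem (S.mul_mem hx htS) (S.inv_mem hx))
      (by rw [← MulAut.conj_apply, MulEquiv.orderOf_eq]; exact ht)
    exact mul_inv_eq_iff_eq_mul.1 h
  have hRt : StrongEmb.InvariantUnder t R := StrongEmb.invariantUnder_of_mem_normalizer (hSR htS)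
  set I := StronglyEmbedded.invertedSet R t with hI
  have hcount := StrongEmb.card_invertedSet_mul ht hodd hRt
  have hIpos : ∃ r ∈ I, r ≠ 1 := by
    obtain ⟨r, hr, hne⟩ := hmov
    obtain ⟨a, ha, c, hc, rfl⟩ := StrongEmb.exists_inverted_mul ht hodd hRt hr
    refine ⟨a, ha, fun h1 => hne ?_⟩
    rw [h1, one_mul, ← Subgroup.mem_centralizer_singleton_iff.1 hc.2, mul_inv_cancel_right]
  -- the action of `S` on the inverted elements different from `1`
  let X := {r : G // r ∈ I ∧ r ≠ 1}
  letI : MulAction S X :=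
    { smul := fun s r => ⟨(s : G) * r.1 * (s : G)⁻¹,
        ⟨(Subgroup.mem_normalizer_iff.1 (hSR s.2) _).1 r.2.1.1, by
          calc t * ((s : G) * r.1 * (s : G)⁻¹) * t⁻¹
              = (t * (s : G)) * r.1 * (t * (s : G))⁻¹ := by group
            _ = ((s : G) * t) * r.1 * ((s : G) * t)⁻¹ := by rw [hcen s s.2]
            _ = (s : G) * (t * r.1 * t⁻¹) * (s : G)⁻¹ := by group
            _ = ((s : G) * r.1 * (s : G)⁻¹)⁻¹ := by rw [r.2.1.2]; group⟩,
        fun h => r.2.2 (conj_eq_one_iff.1 h)⟩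
      one_smul := fun r => Subtype.ext (by
        show ((1 : S) : G) * r.1 * ((1 : S) : G)⁻¹ = r.1
        simp)
      mul_smul := fun a b r => Subtype.ext (by
        show ((a * b : S) : G) * r.1 * ((a * b : S) : G)⁻¹ = a * (b * r.1 * (b : G)⁻¹) * (a : G)⁻¹
        rw [Subgroup.coe_mul]; group) }
  have hfree : ∀ r : X, MulAction.stabilizer S r = ⊥ := by
    intro r
    rw [Subgroup.eq_bot_iff_forall]
    intro s hs
    by_contra hs1
    obtain ⟨j, hj⟩ := hS s
    obtain ⟨i, -, hi⟩ := (Nat.dvd_prime_pow Nat.prime_two).1 (orderOf_dvd_of_pow_eq_one hj)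
    have hi1 : 1 ≤ i := by
      by_contra hc
      obtain rfl : i = 0 := by omega
      exact hs1 (orderOf_eq_one_iff.1 (by simpa using hi))
    have hu : orderOf (s ^ 2 ^ (i - 1)) = 2 := by
      rw [orderOf_pow' s (pow_pos two_pos _).ne', hi, Nat.gcd_eq_right (pow_dvd_pow 2 (by omega)),
        Nat.pow_div (by omega) two_pos, show i - (i - 1) = 1 by omega, pow_one]
    have htu := huniq _ (s ^ 2 ^ (i - 1)).2 (by rw [Subgroup.orderOf_coe]; exact hu)
    have hfix : (s ^ 2 ^ (i - 1)) • r = r := Subgroup.pow_mem _ hs (2 ^ (i - 1))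
    have h2 := congrArg Subtype.val hfix
    change ((s ^ 2 ^ (i - 1) : S) : G) * r.1 * ((s ^ 2 ^ (i - 1) : S) : G)⁻¹ = r.1 at h2
    rw [htu, r.2.1.2] at h2
    refine r.2.2 (StrongEmb.eq_of_mul_self_eq_mem hodd r.2.1.1 R.one_mem ?_)
    rw [one_mul]
    exact inv_eq_iff_mul_eq_one.1 h2
  have h16d : 16 ∣ Nat.card X := by
    rw [Nat.card_congr (MulAction.selfEquivSigmaOrbitsQuotientStabilizer S X)]
    haveI : Fintype (Quotient (MulAction.orbitRel S X)) := Fintype.ofFinite _
    rw [Nat.card_sigma]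
    refine Finset.dvd_sum fun ω _ => ?_
    rw [hfree, ← Subgroup.index_eq_card, Subgroup.index_bot, h16]
  have hX : Nat.card X + 1 = Nat.card I := by
    have h1 : (1 : G) ∈ I := ⟨R.one_mem, by simp⟩
    have e : Nat.card X = (I \ {1}).ncard := by
      rw [← Nat.card_coe_set_eq]
      exact Nat.card_congr (Equiv.subtypeEquivRight fun r => by simp)
    rw [e, Nat.card_coe_set_eq, Set.ncard_sdiff_singleton_add_one h1 (Set.toFinite _)]
  have hIdvd : Nat.card I ∣ 81 := (Dvd.intro _ hcount).trans hR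
  have hI2 : 2 ≤ Nat.card I := by
    obtain ⟨r, hr, hr1⟩ := hIpos
    rw [← hX]
    have : Nonempty X := ⟨⟨r, hr, hr1⟩⟩
    have := Nat.card_pos (α := X)
    omega
  have hI81 : Nat.card I = 81 := by
    obtain ⟨j, hj, hjI⟩ := (Nat.dvd_prime_pow Nat.prime_three).1
      (show Nat.card I ∣ 3 ^ 4 by simpa using hIdvd)
    rw [hjI] at hX hI2 ⊢
    interval_cases j <;> omega
  have hIR : ∀ a ∈ R, t * a * t⁻¹ = a⁻¹ := by
    have hle : I ⊆ (R : Set G) := fun x hx => hx.1
    have hcard : (R : Set G).ncard ≤ I.ncard := by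
      rw [← Nat.card_coe_set_eq, ← Nat.card_coe_set_eq, hI81]
      exact Nat.le_of_dvd (by norm_num) hR
    have heq := Set.eq_of_subset_of_ncard_le hle hcard
    intro a ha
    exact (heq.symm ▸ ha : a ∈ I).2
  intro a b
  have h := hIR _ (R.mul_mem a.2 b.2)
  rw [show t * ((a : G) * b) * t⁻¹ = (t * a * t⁻¹) * (t * b * t⁻¹) by group, hIR a a.2, hIR b b.2,
    ← mul_inv_rev, inv_inj] at h
  exact Subtype.ext (by simpa using h.symm)

theorem two_mul_le_pow {k : ℕ} (hk : 3 ≤ k) : 2 * k ≤ 2 ^ k - 2 ^ (k - 2) := by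
  induction k, hk using Nat.le_induction with
  | base => norm_num
  | succ k hk ih =>
    have : k + 1 - 2 = (k - 2) + 1 := by omega
    rw [this, pow_succ, pow_succ]
    omega

theorem two_mul_succ_le_pow {n : ℕ} (hn : 4 ≤ n) : 2 * (n + 1) ≤ 2 ^ n - 2 ^ (n - 2) := by
  induction n, hn using Nat.le_induction with
  | base => norm_num
  | succ k hk ih =>
    have : k + 1 - 2 = (k - 2) + 1 := by omega
    rw [this, pow_succ, pow_succ]
    omega

theorem exceptional_ge {n n₀ : ℕ} (h2 : 2 ≤ n₀) (h : n₀ ≤ n) :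
    2 ^ n - 2 ^ (n - 2) ≤ 2 ^ (n - n₀) * (2 ^ n₀ - 1) := by
  rw [Nat.mul_sub, ← pow_add, show n - n₀ + n₀ = n by omega, mul_one]
  exact Nat.sub_le_sub_left (Nat.pow_le_pow_right two_pos (by omega)) _

/-- The dimension bound. -/
theorem two_mul_le_finrank (ρ : G →* Module.End (ZMod 2) V) (hρ : Function.Injective ρ)
    (O : Subgroup G) [O.Normal] (hO : Odd (Nat.card O)) (S : Subgroup G) (hS : IsPGroup 2 S) {t : G}
    (ht : orderOf t = 2) (htS : t ∈ S) (huniq : ∀ y ∈ S, orderOf y = 2 → y = t)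
    (htO : t ∉ Subgroup.centralizer (O : Set G)) {k : ℕ} (hk : Nat.card S = 2 ^ k) :
    2 * k ≤ finrank (ZMod 2) V := by
  classical
  haveI : Fact (Nat.Prime 2) := ⟨Nat.prime_two⟩
  obtain ⟨q, hq, hq2, R, hR, -, hSR, hmov⟩ := exists_moved O hO S hS htO
  haveI := Fact.mk hq
  set d := finrank (ZMod 2) V with hd
  have hRd : Nat.card R ∣ glCard d := card_dvd_glCard (ρ.comp R.subtype) (hρ.comp R.subtype_injective)
  have step : ∀ x ∈ S, ∀ n, 1 ≤ n → orderOf x = 2 ^ n → ∀ r, (ρ x - 1) ^ r = 0 →
      2 ^ n ≤ r ∨ ∃ n₀ m : ℕ, 2 ≤ n₀ ∧ n₀ ≤ n ∧ 2 ^ n₀ - 1 = q ^ m ∧ (∃ a b : R, a * b ≠ b * a) ∧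
        2 ^ (n - n₀) * (2 ^ n₀ - 1) ≤ r := fun x hx n hn hxo r hr => by
    refine nil_degree ρ hρ hq2 hR hn hxo (hSR hx) ?_ r hr
    have hord : orderOf (x ^ 2 ^ (n - 1)) = 2 := by
      rw [orderOf_pow' x (pow_pos two_pos _).ne', hxo, Nat.gcd_eq_right (pow_dvd_pow 2 (by omega)),
        Nat.pow_div (by omega) two_pos, show n - (n - 1) = 1 by omega, pow_one]
    rw [huniq _ (S.pow_mem hx _) hord]
    exact hmov
  have top : ∀ x ∈ S, ∀ n, orderOf x = 2 ^ n → (ρ x - 1) ^ d = 0 := fun x _ n hxo =>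
    pow_finrank_sub_one (n := n) (ρ x) (by rw [← map_pow, ← hxo, pow_orderOf_eq_one, map_one])
  have qthree : ∀ {m : ℕ}, 2 ^ 2 - 1 = q ^ m → q = 3 := fun {m} h => by
    have h1 : q ∣ 3 := by
      rcases Nat.eq_zero_or_pos m with rfl | hm
      · simp at h
      · exact ⟨q ^ (m - 1), by rw [← pow_succ', show m - 1 + 1 = m by omega]; omega⟩
    exact (Nat.prime_dvd_prime_iff_eq hq Nat.prime_three).1 h1
  have hk0 : 1 ≤ k := by
    by_contra h
    obtain rfl : k = 0 := by omega
    have h1 : Nat.card S ≤ 1 := by rw [hk]; norm_num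
    haveI : Subsingleton S := (Finite.card_le_one_iff_subsingleton).1 h1
    have : (⟨t, htS⟩ : S) = 1 := Subsingleton.elim _ _
    rw [show t = 1 from congrArg Subtype.val this, orderOf_one] at ht
    norm_num at ht
  have hu : TwoGroup.AtMostOneInvolution S := fun a b ha hb => by
    have h1 := huniq a a.2 (by rw [Subgroup.orderOf_coe]; exact ha)
    have h2 := huniq b b.2 (by rw [Subgroup.orderOf_coe]; exact hb)
    exact Subtype.ext (h1.trans h2.symm)
  rcases TwoGroup.cyclic_or_quaternion hS hu with hc | ⟨k', hk', ⟨e⟩⟩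
  · obtain ⟨g, hg⟩ := IsCyclic.exists_ofOrder_eq_natCard (α := S)
    have hgo : orderOf (g : G) = 2 ^ k := by rw [Subgroup.orderOf_coe, hg, hk]
    rcases step g g.2 k hk0 hgo d (top g g.2 k hgo) with h | ⟨n₀, m, h2, hle, hqm, hq3, h5⟩
    · have : 2 * k ≤ 2 ^ k := by
        clear * - hk0
        induction k, hk0 using Nat.le_induction with
        | base => norm_num
        | succ k hk ih => rw [pow_succ]; omega
      omega
    · rcases Nat.lt_or_ge k 3 with hk3 | hk3
      · obtain rfl : n₀ = 2 := by omega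
        obtain rfl : k = 2 := by omega
        obtain rfl := qthree hqm
        by_contra hlt
        have h3 : d = 3 := by norm_num at h5; omega
        rw [h3] at hRd
        exact absurd ((cube_dvd_of_noncomm hR hq3).trans hRd) (by decide)
      · exact (two_mul_le_pow hk3).trans ((exceptional_ge h2 hle).trans h5)
  · have hcard : 4 * 2 ^ k' = 2 ^ k := by
      rw [← hk, Nat.card_congr e.toEquiv, Nat.card_eq_fintype_card, QuaternionGroup.card]
    have hkk : k = k' + 2 := Nat.pow_right_injective le_rfl (show 2 ^ k = 2 ^ (k' + 2) by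
      rw [← hcard, pow_add]; ring)
    obtain ⟨g, hg⟩ : ∃ g : S, orderOf g = 2 ^ (k - 1) := by
      refine ⟨e.symm (QuaternionGroup.a 1), ?_⟩
      rw [MulEquiv.orderOf_eq, QuaternionGroup.orderOf_a_one, ← pow_succ', show k' + 1 = k - 1 by omega]
    have hgo : orderOf (g : G) = 2 ^ (k - 1) := by rw [Subgroup.orderOf_coe, hg]
    rcases Nat.lt_or_ge k 4 with hk4 | hk4
    · obtain rfl : k = 3 := by omega
      by_contra hlt
      have hlt5 : d ≤ 5 := by omega
      have := six_le ρ S hS ht htS huniq (by rw [hk]; norm_num) fun x hx hxo h3 => by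
        rcases step x hx 2 (by norm_num) (by rw [hxo]; norm_num) 3 h3 with h | ⟨n₀, m, h2, hle, hqm, hq3, -⟩
        · norm_num at h
        · obtain rfl : n₀ = 2 := by omega
          obtain rfl := qthree hqm
          have hdvd := (cube_dvd_of_noncomm hR hq3).trans hRd
          revert hdvd
          clear_value d
          interval_cases d <;> decide
      omega
    · rcases step g g.2 (k - 1) (by omega) hgo d (top g g.2 _ hgo) with h | ⟨n₀, m, h2, hle, hqm, hq3, h5⟩
      · have : 2 * k ≤ 2 ^ (k - 1) := by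
          obtain ⟨j, rfl⟩ : ∃ j, k = j + 4 := ⟨k - 4, by omega⟩
          clear * -
          induction j with
          | zero => norm_num
          | succ j ih =>
            simp only [Nat.add_one_sub_one, show j + 1 + 4 = j + 4 + 1 by omega] at ih ⊢
            rw [show j + 4 = j + 3 + 1 by omega, pow_succ]
            omega
        omega
      · rcases Nat.lt_or_ge k 5 with hk5 | hk5
        · obtain rfl : k = 4 := by omega
          by_contra hlt
          have hd7 : d ≤ 7 := by omega
          have hn3 : n₀ = 2 ∨ n₀ = 3 := by omega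
          obtain ⟨j, hj⟩ := hR.exists_card_eq
          rcases hn3 with rfl | rfl
          · obtain rfl := qthree hqm
            have hR81 : Nat.card R ∣ 81 := by
              rw [hj] at hRd ⊢
              have hj4 : j ≤ 4 := by
                by_contra hc
                have hdvd := (pow_dvd_pow 3 (show 5 ≤ j by omega)).trans hRd
                revert hdvd
                clear_value d
                interval_cases d <;> decide
              exact (pow_dvd_pow 3 hj4).trans (by norm_num)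
            have hcomm := comm_of_sixteen S hS ht htS huniq (by rw [hk]; norm_num) hR81 hSR hmov
            obtain ⟨a, b, hab⟩ := hq3
            exact hab (hcomm a b)
          · have hq7 : q = 7 := by
              have h1 : q ∣ 7 := by
                rcases Nat.eq_zero_or_pos m with rfl | hm
                · simp at hqm
                · exact ⟨q ^ (m - 1), by rw [← pow_succ', show m - 1 + 1 = m by omega]; omega⟩
              exact (Nat.prime_dvd_prime_iff_eq hq (by norm_num)).1 h1
            subst hq7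
            have hdvd := (cube_dvd_of_noncomm hR hq3).trans hRd
            revert hdvd
            clear_value d
            interval_cases d <;> decide
        · have h1 := two_mul_succ_le_pow (n := k - 1) (by omega)
          rw [show k - 1 + 1 = k by omega] at h1
          exact h1.trans ((exceptional_ge h2 hle).trans h5)

end CfsgLib.SEModuleBound
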